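import Cfsg.Agent.H5.Brauer1
import Cfsg.Agent.H4.Char4

/-!
Characters realizable over a subfield of `ℂ`; Brauer's splitting field theorem.
-/

set_option autoImplicit false
set_option linter.dupNamespace false

open scoped ComplexConjugate
open Cfsg Cfsg.Agent.H4 Module

namespace Cfsg.Agent.H5

section field
variable {k : Type*} [Field k] {G : Type*} [Group G] {V W : Type*} [AddCommGroup V] [Module k V]
  [AddCommGroup W] [Module k W]

/-- A representation is equivalent to the product of two complementary subrepresentations. -/
noncomputable def prodEquivOfIsCompl' {ρ : Representation k G V} {U U' : Subrepresentation ρ}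
    (h : IsCompl U U') : (U.toRepresentation.prod U'.toRepresentation).Equiv ρ :=
  Representation.Equiv.mk (Submodule.prodEquivOfIsCompl U.toSubmodule U'.toSubmodule
    ⟨by
      have := h.1
      rw [disjoint_iff] at this ⊢
      exact congrArg Subrepresentation.toSubmodule this,
    by
      have := h.2
      rw [codisjoint_iff] at this ⊢
      exact congrArg Subrepresentation.toSubmodule this⟩) fun g => by
    ext v <;> simp [Representation.prod, Subrepresentation.toRepresentation]

variable [FiniteDimensional k V]

theorem character_prod' [FiniteDimensional k W] (ρ : Representation k G V)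
    (σ : Representation k G W) : (ρ.prod σ).character = ρ.character + σ.character := by
  ext g
  exact LinearMap.trace_prodMap' (ρ g) (σ g)

theorem character_eq_add_of_isCompl' {ρ : Representation k G V} {U U' : Subrepresentation ρ}
    (h : IsCompl U U') :
    ρ.character = U.toRepresentation.character + U'.toRepresentation.character := by
  rw [← character_prod', Representation.char_iso (prodEquivOfIsCompl' h)]

theorem exists_irreducible_subrep' [Nontrivial V] (ρ : Representation k G V) :
    ∃ U : Subrepresentation ρ, U.toRepresentation.IsIrreducible := by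
  have hne : ∃ n, ∃ U : Subrepresentation ρ, U.toSubmodule ≠ ⊥ ∧ finrank k U.toSubmodule = n :=
    ⟨_, ⊤, top_ne_bot, rfl⟩
  classical
  obtain ⟨U, hU, hn⟩ := Nat.find_spec hne
  have hnt : Nontrivial U.toSubmodule := Submodule.nontrivial_iff_ne_bot.mpr hU
  have : Nontrivial (Subrepresentation U.toRepresentation) := ⟨⊥, ⊤, fun h =>
    bot_ne_top (congrArg Subrepresentation.toSubmodule h :
      (⊥ : Submodule k U.toSubmodule) = ⊤)⟩
  refine ⟨U, ⟨fun W => ?_⟩⟩
  by_cases hW : W.toSubmodule = ⊥
  · left; ext1; exact hW
  right
  let W' : Subrepresentation ρ := ⟨W.toSubmodule.map U.toSubmodule.subtype, by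
    rintro g _ ⟨w, hw, rfl⟩
    exact ⟨_, W.apply_mem_toSubmodule g hw, rfl⟩⟩
  have h1 : finrank k W'.toSubmodule = finrank k W.toSubmodule :=
    Submodule.finrank_map_subtype_eq _ _
  have h2 := Nat.find_min' hne ⟨W', fun h => hW (Submodule.finrank_eq_zero.mp (by
    rw [← h1, h, finrank_bot])), rfl⟩
  ext1
  exact Submodule.eq_top_of_finrank_eq (le_antisymm (Submodule.finrank_le _) (by omega))

end field

/-- `χ` is afforded by a representation over the subfield `F` of `ℂ`. -/
def Realizable (F : Subfield ℂ) {G : Type*} [Group G] (χ : G → ℂ) : Prop :=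
  ∃ (n : ℕ) (M : G →* Matrix (Fin n) (Fin n) F), ∀ g, χ g = (M g).trace

section real
variable {F : Subfield ℂ} {G : Type*} [Group G] {χ ψ : G → ℂ}

theorem realizable_character {V : Type*} [AddCommGroup V] [Module F V] [FiniteDimensional F V]
    (ρ : Representation F G V) : Realizable F (fun g => (ρ.character g : ℂ)) := by
  let b := Module.finBasis F V
  refine ⟨_, (LinearMap.toMatrixAlgEquiv b).toMonoidHom.comp ρ, fun g => ?_⟩
  exact congrArg Subtype.val (LinearMap.trace_eq_matrix_trace F b (ρ g))

theorem realizable_of_matrix {ι : Type*} [Fintype ι] [DecidableEq ι] (M : G →* Matrix ι ι F) :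
    Realizable F (fun g => ((M g).trace : ℂ)) := by
  simpa only [repOfMatrix_character] using realizable_character (repOfMatrix M)

theorem Realizable.exists_rep (h : Realizable F χ) :
    ∃ (n : ℕ) (ρ : Representation F G (Fin n → F)), χ = fun g => (ρ.character g : ℂ) := by
  obtain ⟨n, M, h⟩ := h
  exact ⟨n, repOfMatrix M, funext fun g => by rw [h, repOfMatrix_character]⟩

theorem coe_trace {ι : Type*} [Fintype ι] (A : Matrix ι ι F) :
    (A.map F.subtype).trace = (A.trace : ℂ) := (AddMonoidHom.map_trace F.subtype A).symm

theorem Realizable.isCharacter (h : Realizable F χ) : IsCharacter G χ := by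
  obtain ⟨n, M, h⟩ := h
  convert isCharacter_of_matrix (F.subtype.mapMatrix.toMonoidHom.comp M) using 2 with g
  rw [h]; exact (coe_trace _).symm

theorem realizable_zero : Realizable F (0 : G → ℂ) := ⟨0, 1, fun g => by simp⟩

theorem Realizable.add (h : Realizable F χ) (h' : Realizable F ψ) : Realizable F (χ + ψ) := by
  obtain ⟨n, ρ, rfl⟩ := h.exists_rep
  obtain ⟨m, σ, rfl⟩ := h'.exists_rep
  convert realizable_character (ρ.prod σ) using 2 with g
  rw [character_prod']; simp

theorem Realizable.nsmul (h : Realizable F χ) (n : ℕ) : Realizable F (n • χ) := by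
  induction n with
  | zero => rw [zero_smul]; exact realizable_zero
  | succ n ih => rw [succ_nsmul]; exact ih.add h

theorem realizable_linear (lam : G →* ℂˣ) (h : ∀ g, (lam g : ℂ) ∈ F) :
    Realizable F (fun g => (lam g : ℂ)) :=
  ⟨1, (Matrix.scalar (Fin 1)).toMonoidHom.comp
    (((Units.coeHom ℂ).comp lam).codRestrict F h), fun g => by simp [Matrix.trace]; rfl⟩

theorem Realizable.ind [Fintype G] {H : Subgroup G} {θ : H → ℂ} (h : Realizable F θ) :
    Realizable F (indFun H θ) := by
  classical
  have hθ := h.isCharacter.isClassFunction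
  obtain ⟨n, M, h⟩ := h
  convert realizable_of_matrix (indMat H M) using 2 with g
  rw [trace_indMat, indFun_eq_sum_quotient H hθ]
  push_cast
  refine Finset.sum_congr rfl fun q _ => ?_
  by_cases hq : q.out⁻¹ * g * q.out ∈ H
  · rw [extendByZero_mem _ _ hq, extMat_mem _ _ hq, h]
  · rw [extendByZero_not_mem _ _ hq, extMat_not_mem _ _ hq]; simp

theorem inner_character_eq_finrank [Fintype G] {V W : Type*} [AddCommGroup V] [Module F V]
    [FiniteDimensional F V] [AddCommGroup W] [Module F W] [FiniteDimensional F W]
    (ρ : Representation F G V) (σ : Representation F G W) :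
    classInner (fun g => (σ.character g : ℂ)) (fun g => (ρ.character g : ℂ)) =
      finrank F (ρ.IntertwiningMap σ) := by
  have : Invertible (Nat.card G : F) := invertibleOfNonzero (Nat.cast_ne_zero.2 Nat.card_pos.ne')
  have h := congrArg F.subtype (Representation.card_inv_mul_sum_char_mul_char_eq_finrank ρ σ)
  rw [map_natCast] at h
  rw [← h, classInner_def]
  simp only [← (realizable_character ρ).isCharacter.apply_inv]
  simp

theorem Realizable.of_add_aux [Finite G] (hχ : IsCharacter G χ) (n : ℕ) :
    ∀ {V : Type} [AddCommGroup V] [Module F V] [FiniteDimensional F V] (ρ : Representation F G V),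
      finrank F V = n → Realizable F (χ + fun g => (ρ.character g : ℂ)) → Realizable F χ := by
  induction n using Nat.strong_induction_on with
  | _ n ih =>
  intro V _ _ _ ρ hn h
  have := Fintype.ofFinite G
  have : NeZero (Nat.card G : F) := ⟨Nat.cast_ne_zero.2 Nat.card_pos.ne'⟩
  rcases subsingleton_or_nontrivial V with hV | hV
  · convert h using 1
    funext g
    simp [Representation.character, Subsingleton.elim (ρ g) 0]
  obtain ⟨m, σ, hσ⟩ := h.exists_rep
  obtain ⟨U, hU⟩ := exists_irreducible_subrep' ρ
  obtain ⟨U', hU'⟩ := exists_isCompl U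
  have hsplit := character_eq_add_of_isCompl' hU'
  have hUc := (realizable_character U.toRepresentation).isCharacter
  have hUc' := (realizable_character U'.toRepresentation).isCharacter
  have hpos : 0 < finrank F U.toSubmodule := by
    have : Nontrivial U.toSubmodule := by
      by_contra h0
      rw [not_nontrivial_iff_subsingleton] at h0
      exact bot_ne_top (α := Subrepresentation U.toRepresentation)
        (Subrepresentation.ext (Subsingleton.elim _ _))
    exact finrank_pos
  have hadd : (fun g => (σ.character g : ℂ)) = (fun g => (U.toRepresentation.character g : ℂ)) +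
      (χ + fun g => (U'.toRepresentation.character g : ℂ)) := by
    rw [← hσ, hsplit]; funext g; simp; ring
  have h1 : finrank F (U.toRepresentation.IntertwiningMap σ) ≠ 0 := by
    intro h0
    have h2 := inner_character_eq_finrank U.toRepresentation σ
    obtain ⟨a, ha⟩ := (hχ.add hUc').classInner_nat hUc
    obtain ⟨b, hb⟩ := hUc.classInner_nat hUc
    rw [hadd, classInner_add_left, ha, hb, h0] at h2
    have h3 : b + a = 0 := by exact_mod_cast h2
    have h4 : b = 0 := by omega
    rw [h4, Nat.cast_zero, classInner_self_eq_zero] at hb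
    have h5 := congrFun hb 1
    rw [Representation.char_one, Pi.zero_apply] at h5
    have h6 : finrank F U.toSubmodule = 0 := by exact_mod_cast h5
    omega
  have : Nontrivial (U.toRepresentation.IntertwiningMap σ) :=
    finrank_pos_iff.mp (Nat.pos_of_ne_zero h1)
  obtain ⟨f, hf⟩ := exists_ne (0 : U.toRepresentation.IntertwiningMap σ)
  have hinj := (Representation.IsIrreducible.injective_or_eq_zero f).resolve_right hf
  obtain ⟨R', hR'⟩ := exists_isCompl f.range
  let e1 : U.toRepresentation.Equiv f.range.toRepresentation :=
    Representation.Equiv.mk (LinearEquiv.ofInjective f.toLinearMap hinj) fun g => by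
      refine LinearMap.ext fun v => Subtype.ext ?_
      exact f.isIntertwining _ _ g v
  have h4 : finrank F U'.toSubmodule < n := by
    have h5 := congrFun hsplit 1
    rw [Pi.add_apply, ρ.char_one, Representation.char_one, Representation.char_one] at h5
    have h6 : finrank F V = finrank F U.toSubmodule + finrank F U'.toSubmodule := by
      exact_mod_cast h5
    omega
  refine ih _ h4 U'.toRepresentation rfl ?_
  convert realizable_character R'.toRepresentation using 1
  rw [character_eq_add_of_isCompl' hR', ← Representation.char_iso e1] at hadd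
  funext g
  have := congrFun hadd g
  simp only [Pi.add_apply, Subfield.coe_add] at this ⊢
  linear_combination -this

/-- Cancellation for realizable characters. -/
theorem Realizable.of_add [Finite G] (hχ : IsCharacter G χ) (hψ : Realizable F ψ)
    (h : Realizable F (χ + ψ)) : Realizable F χ := by
  obtain ⟨n, ρ, rfl⟩ := hψ.exists_rep
  exact Realizable.of_add_aux hχ _ ρ rfl h

/-- Brauer's splitting field theorem. -/
theorem realizable_of_roots [Finite G] (hF : ∀ z : ℂ, z ^ Monoid.exponent G = 1 → z ∈ F)
    (hχ : IsCharacter G χ) : Realizable F χ := by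
  have := Fintype.ofFinite G
  have key : ∀ η ∈ linSpan (fun E : Subgroup G => ∃ p : ℕ, p.Prime ∧ IsElementary p E),
      ∃ α β : G → ℂ, Realizable F α ∧ Realizable F β ∧ η + β = α := by
    intro η hη
    induction hη using Submodule.span_induction with
    | mem f hf =>
      obtain ⟨E, -, lam, rfl⟩ := hf
      refine ⟨_, 0, (realizable_linear lam fun g => hF _ ?_).ind, realizable_zero, add_zero _⟩
      rw [← Units.val_pow_eq_pow_val, ← map_pow,
        show g ^ Monoid.exponent G = 1 from Subtype.ext (Monoid.pow_exponent_eq_one (g : G)),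
        map_one, Units.val_one]
    | zero => exact ⟨0, 0, realizable_zero, realizable_zero, add_zero _⟩
    | add x y _ _ hx hy =>
      obtain ⟨a, b, h1, h2, h3⟩ := hx
      obtain ⟨c, d, h4, h5, h6⟩ := hy
      exact ⟨_, _, h1.add h4, h2.add h5, by rw [← h3, ← h6]; abel⟩
    | smul c x _ hx =>
      obtain ⟨a, b, h1, h2, h3⟩ := hx
      obtain ⟨n, rfl | rfl⟩ := c.eq_nat_or_neg
      · exact ⟨_, _, h1.nsmul n, h2.nsmul n, by rw [← h3, natCast_zsmul, smul_add]⟩
      · exact ⟨_, _, h2.nsmul n, h1.nsmul n, by
          rw [← h3, neg_smul, natCast_zsmul, smul_add]; abel⟩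
  obtain ⟨α, β, h1, h2, h3⟩ := key χ (brauer_induction hχ.isGen)
  exact Realizable.of_add hχ h2 (h3 ▸ h1)

end real

end Cfsg.Agent.H5
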